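import Cfsg.Agent.Mrg.Omega.EK3.QG.Def
import Cfsg.Agent.Mrg.Omega.EK3.Q.Split
import Cfsg.Agent.Mrg.Omega.EK3.QG.Inst

section


/-!
# (E), `k ≥ 3`, `q ≥ 4` (bb #22703 (0'), #23165 (C)): the local groups `C_ij` over the frame `FrG`

`E_ij = EQ Z ZJ i j = ⟨ZJ^{C_ij}⟩`, `WQ Z W i j = ⟨W_i^{Y_j}⟩`.

Port of `EK3/Q/LocQ.lean` to the frame `FrG` over `MulG`.
-/

set_option autoImplicit false
set_option linter.unusedSectionVars false

namespace Cfsg.Agent.Omega.EK3.QG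

open Subgroup Cfsg Cfsg.Agent.ZN.ChoiceBase
open Cfsg.Agent.ZN (zc zl o2)
open Cfsg.Agent.Omega.NO3S.EThree.Frame
open Cfsg.Agent.Omega.Node.MultiOf
open Cfsg.Agent.Omega.NoFF.Basic (V)

open Cfsg.Agent.Omega.Node.MulG
open Cfsg.Agent.Omega.EK3.Q

universe u

variable {G : Type u} [Group G] {k : ℕ}

namespace FrG

variable [Finite G] {S : Sylow 2 G} {P K B ZJ : Subgroup G} {L W Z C : Fin k → Subgroup G} {q : ℕ}
  (h : FrG S P K B ZJ L W Z C q)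
include h

/-- a third index -/
theorem third (i j : Fin k) : ∃ l, l ≠ i ∧ l ≠ j := by
  by_contra hcon
  push Not at hcon
  have h1 : ∀ l : Fin k, l = i ∨ l = j := fun l => by
    by_cases hl : l = i
    · exact Or.inl hl
    · exact Or.inr (hcon l hl)
  have h2 : (Finset.univ : Finset (Fin k)) ⊆ {i, j} := fun l _ => by
    rcases h1 l with rfl | rfl <;> simp
  have h3 := Finset.card_le_card h2
  rw [Finset.card_univ, Fintype.card_fin] at h3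
  have h4 : ({i, j} : Finset (Fin k)).card ≤ 2 := Finset.card_le_two
  exact absurd h.three (by omega)

/-- **`C_ij` has characteristic 2** -/
theorem char2_CQ (i j : Fin k) : CQ Z i j ⊓ centralizer (o2 (CQ Z i j) : Set G) ≤ o2 (CQ Z i j) := by
  obtain ⟨l, hi, hj⟩ := h.third i j
  exact Loc.char2_CI h.mul.bg hi hj

theorem o2CQ_cent_left (i j : Fin k) : o2 (CQ Z i j) ≤ centralizer (W i : Set G) :=
  Loc.o2CI_cent_left h.mul.bg i j

theorem o2CQ_cent_right (i j : Fin k) : o2 (CQ Z i j) ≤ centralizer (W j : Set G) :=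
  Loc.o2CI_cent_right h.mul.bg i j

/-- `O₂(C_ij) ≤ D` -/
theorem o2CQ_le_D (i j : Fin k) : o2 (CQ Z i j) ≤ centralizer (ZJ : Set G) := Loc.o2CI_le_D h.mul.bg i j

/-- **`O₂(C_ij) ≤ B`** -/
theorem o2CQ_le_B (i j : Fin k) : o2 (CQ Z i j) ≤ B := Loc.o2CI_le_B h.mul.bg i j

/-- `O₂(C_ij) ≤ O₂(D)` -/
theorem o2CQ_le_O (i j : Fin k) : o2 (CQ Z i j) ≤ o2 (centralizer (ZJ : Set G)) := Loc.o2CI_le_O h.mul.bg i j

/-- `O₂(C_ij) ≤ O₂(Y_i)` -/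
theorem o2CQ_le_left (i j : Fin k) : o2 (CQ Z i j) ≤ o2 (YQ Z i) := Loc.o2CI_le_left h.mul.bg i j

/-- `O₂(C_ij) ≤ O₂(Y_j)` -/
theorem o2CQ_le_right (i j : Fin k) : o2 (CQ Z i j) ≤ o2 (YQ Z j) := Loc.o2CI_le_right h.mul.bg i j

theorem ZJ_le_zcCQ (i j : Fin k) : ZJ ≤ zc (o2 (CQ Z i j)) := by
  obtain ⟨l, hi, hj⟩ := h.third i j
  exact Loc.ZJ_le_zc h.mul.bg hi hj

/-- **`E_ij ≤ Ω₁Z(O₂(C_ij))`** -/
theorem EQ_le_zc (i j : Fin k) : EQ Z ZJ i j ≤ zc (o2 (CQ Z i j)) := by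
  obtain ⟨l, hi, hj⟩ := h.third i j
  exact Loc.EI_le h.mul.bg hi hj

theorem EQ_le_o2 (i j : Fin k) : EQ Z ZJ i j ≤ o2 (CQ Z i j) := (h.EQ_le_zc i j).trans (ZN.ChoiceSit.zc_le _)

theorem EQ_comm {i j : Fin k} {x y : G} (hx : x ∈ EQ Z ZJ i j) (hy : y ∈ EQ Z ZJ i j) : x * y = y * x :=
  (mem_zc.1 (h.EQ_le_zc i j hy)).2.2 x (h.EQ_le_o2 i j hx)

theorem EQ_sq {i j : Fin k} {x : G} (hx : x ∈ EQ Z ZJ i j) : x ^ 2 = 1 := (mem_zc.1 (h.EQ_le_zc i j hx)).2.1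

theorem EQ_ab (i j : Fin k) : EQ Z ZJ i j ≤ centralizer (EQ Z ZJ i j : Set G) := fun _ hx =>
  mem_centralizer_iff.2 fun _ hy => h.EQ_comm hy hx

theorem EQ_le_B (i j : Fin k) : EQ Z ZJ i j ≤ B := (h.EQ_le_o2 i j).trans (h.o2CQ_le_B i j)

theorem EQ_le_D (i j : Fin k) : EQ Z ZJ i j ≤ centralizer (ZJ : Set G) := (h.EQ_le_o2 i j).trans (h.o2CQ_le_D i j)

theorem EQ_le_O (i j : Fin k) : EQ Z ZJ i j ≤ o2 (centralizer (ZJ : Set G)) :=
  (h.EQ_le_o2 i j).trans (h.o2CQ_le_O i j)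

theorem EQ_le_left (i j : Fin k) : EQ Z ZJ i j ≤ o2 (YQ Z i) := (h.EQ_le_o2 i j).trans (h.o2CQ_le_left i j)

theorem EQ_le_right (i j : Fin k) : EQ Z ZJ i j ≤ o2 (YQ Z j) := (h.EQ_le_o2 i j).trans (h.o2CQ_le_right i j)

theorem EQ_cent_left (i j : Fin k) : EQ Z ZJ i j ≤ centralizer (W i : Set G) :=
  (h.EQ_le_o2 i j).trans (h.o2CQ_cent_left i j)

theorem EQ_cent_right (i j : Fin k) : EQ Z ZJ i j ≤ centralizer (W j : Set G) :=
  (h.EQ_le_o2 i j).trans (h.o2CQ_cent_right i j)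

theorem NQ_le_EQ_left (i j : Fin k) : NQ Z i ≤ EQ Z ZJ i j := Loc.N_le_EI_left h.mul.bg i j

theorem NQ_le_EQ_right (i j : Fin k) : NQ Z j ≤ EQ Z ZJ i j := Loc.N_le_EI_right h.mul.bg i j

theorem W_le_EQ_left (i j : Fin k) : W i ≤ EQ Z ZJ i j := Loc.W_le_EI_left h.mul.bg i j

theorem W_le_EQ_right (i j : Fin k) : W j ≤ EQ Z ZJ i j := Loc.W_le_EI_right h.mul.bg i j

/-- `W_ij ≤ E_ij` -/
theorem WQ_le_EQ (i j : Fin k) : WQ Z W i j ≤ EQ Z ZJ i j := Loc.WW_le_EI h.mul.bg i j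

/-- `W_ji ≤ E_ij` -/
theorem WQ_le_EQ' (i j : Fin k) : WQ Z W j i ≤ EQ Z ZJ i j := Loc.WW_le_EI' h.mul.bg i j

/-- **`N_j ≤ O₂(P)`** -/
theorem NQ_le_o2P (j : Fin k) : NQ Z j ≤ o2 P := Loc.N_le_Q h.mul.bg h.third j

/-- `O₂(Y_j)` centralises `W j` -/
theorem o2Y_cent (j : Fin k) : o2 (YQ Z j) ≤ centralizer (W j : Set G) := Loc.o2Y_cent h.mul.bg j

theorem o2Y_le_D (j : Fin k) : o2 (YQ Z j) ≤ centralizer (ZJ : Set G) := Loc.o2Y_le_D h.mul.bg j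

/-- **`O₂(Y_j) ≤ B`** -/
theorem o2Y_le_B (j : Fin k) : o2 (YQ Z j) ≤ B := Loc.o2Y_le_B h.mul.bg j

/-- `O₂(Y_j) ≤ O₂(D)` -/
theorem o2Y_le_O (j : Fin k) : o2 (YQ Z j) ≤ o2 (centralizer (ZJ : Set G)) := Loc.o2Y_le_O h.mul.bg j

/-- **`[W_ij, O₂(Y_j)] ≤ Z i`**, `i ≠ j` -/
theorem comm_WQ {i j : Fin k} (hij : i ≠ j) {x w : G} (hx : x ∈ o2 (YQ Z j)) (hw : w ∈ WQ Z W i j) :
    x * w * x⁻¹ * w⁻¹ ∈ Z i := Loc.comm_WW h.mul.bg hij hx hw

end FrG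

end Cfsg.Agent.Omega.EK3.QG

end

section


/-!
# (E), `k ≥ 3`, `q ≥ 4` (bb #22703, #23133, #23990): the output of STAR over the frame `FrG`

`OutQ` : `i ≠ j`, an elementary abelian `F ≤ O₂(D)` which centralises `N_i`, moves `N_j`, is exact on every `M` between `N_j` and
`E_ij`, and is low: `F ≤ O₂(C_{Y_j}(W_i))`.

Port of `EK3/Q/StarI.lean` to the frame `FrG` over `MulG`.
-/

set_option autoImplicit false
set_option linter.unusedSectionVars false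

namespace Cfsg.Agent.Omega.EK3.QG

open Subgroup Cfsg Cfsg.Agent.ZN.ChoiceBase
open Cfsg.Agent.ZN (zc zl o2)
open Cfsg.Agent.Omega.NO3S.EThree
open Cfsg.Agent.Omega.NO3S.EThree.Frame
open Cfsg.Agent.Omega.NO3S.EThree.ExactA (eab_mono eab_iff)
open Cfsg.Agent.Omega.Node.MultiOf
open Cfsg.Agent.Omega.EK3.StarE (EE)
open Cfsg.Agent.Omega.NoFF.Basic (V)

open Cfsg.Agent.Omega.Node.MulG
open Cfsg.Agent.Omega.EK3.Q

universe u

variable {G : Type u} [Group G] {k : ℕ}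

namespace FrG

variable [Finite G] {S : Sylow 2 G} {P K B ZJ : Subgroup G} {L W Z C : Fin k → Subgroup G} {q : ℕ}
  (h : FrG S P K B ZJ L W Z C q)
include h

theorem EE_le_O (i j : Fin k) : EE ZJ (YQ Z i ⊔ YQ Z j) ≤ o2 (centralizer (ZJ : Set G)) :=
  (EE_le_EQ ZJ Z i j).trans (h.EQ_le_O i j)

theorem EE_le_B (i j : Fin k) : EE ZJ (YQ Z i ⊔ YQ Z j) ≤ B := (h.EE_le_O i j).trans h.O_le_B

theorem W_le_NQ' (j : Fin k) : W j ≤ NQ Z j := Loc.W_le_N h.mul.bg j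

theorem WQ_le_EE' (i j : Fin k) : WQ Z W i j ≤ EE ZJ (YQ Z i ⊔ YQ Z j) :=
  WQ_le_EE (h.mul.bg.fr.Z_le i) (h.W_le_NQ' i) le_rfl

theorem NQ_le_EE' (i j : Fin k) : NQ Z j ≤ EE ZJ (YQ Z i ⊔ YQ Z j) :=
  NQ_le_EE (h.mul.bg.fr.Z_le j) le_sup_right

/-- **STAR for `q ≥ 4`.** -/
theorem exists_out {L' : Fin k → Subgroup G}
    (hF : StarE.Fr (o2 (centralizer (ZJ : Set G))) (centralizer (ZJ : Set G)) ZJ (YQ Z) (NQ Z) L')
    (hO : o2 (centralizer (ZJ : Set G)) ≠ ⊥)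
    (hLC : ∀ i j, i ≠ j → L' i ≤ normalizer ((YQ Z j ⊓ centralizer (W i : Set G) : Subgroup G) : Set G))
    (hLZ : ∀ i j, i ≠ j → L' i ≤ centralizer (Z j : Set G)) :
    ∃ i j F, OutQ ZJ W Z i j F := by
  obtain ⟨i, j, F₁, F, x, o⟩ := hF.star hO
  refine ⟨i, j, F, ⟨o.ne, o.eab, o.leO, o.le_centi, o.mov, ?_, o.le_cent hF, o.le_sup hF,
    fun M h1 h2 => o.exact hF h1 h2, fun M A h1 h2 h3 => o.no_sub hF h1 h2 h3⟩⟩
  exact o.low hF (V := W i) (Zp := Z j) (MinSimple.VModule.o2_isPGroup _) (h.W_le_NQ' i) (hLC i j o.ne)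
    ((hLZ i j o.ne).trans (centralizer_le_normalizer _)) (Q.Z_le_NQ Z j) (h.stab j).le

end FrG

end Cfsg.Agent.Omega.EK3.QG

end

section


/-!
# (E), `k ≥ 3`, `q ≥ 4` (bb #22703, #23165): the minimal parabolics over `T_j` in `Y_j`

* `blk_idx` : a block with module `W j`;  `blk_both` = (BLK) : `L' ≤ L_j C_D(W_j)`, `L_j ≤ L' C_D(W_j)`;
* `par`;  `gen` : `Y_j = ⟨D, L_j, N_{Y_j}(B)⟩`;  `nonloc` (port of `EK3/Q/Par.lean` to `MulG`).
-/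

set_option autoImplicit false
set_option linter.unusedSectionVars false
set_option linter.unusedVariables false

namespace Cfsg.Agent.Omega.EK3.QG

open Subgroup Cfsg Cfsg.Agent.ZN.ChoiceBase
open Cfsg.Agent.ZN (jj zj bau zc zl o2)
open Cfsg.Agent.ZN.ChoiceSit (Syl exists_syl syl_conj isPGroup_o2 le_o2 le_normalizer_o2 o2_le_syl syl_not_dvd)
open Cfsg.Agent.Omega
open Cfsg.Agent.Omega.OM Cfsg.Agent.Omega.OM.Uni
open Cfsg.Agent.Omega.OM.UniPlus (NB)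
open Cfsg.Agent.Omega.NO3S.EThree.Frame
open Cfsg.Agent.Omega.NO3S.EMany
open Cfsg.Agent.Omega.Node.MultiOf
open Cfsg.Agent.Omega.Node.MulG
open Cfsg.Agent.Omega.EK3.Q (YQ CQ NQ TY mem_YQ mem_CQ CQ_comm YQ_le_left YQ_le_right YQ_cent CQ_cent YQ_eq_cent CQ_eq_cent)
open Cfsg.Agent.MinSimple.MinParabolic (IsMinPar)
open scoped Pointwise

universe u

variable {G : Type u} [Group G] {k : ℕ}

namespace FrG

variable [Finite G] {S : Sylow 2 G} {P K B ZJ : Subgroup G} {L W Z C : Fin k → Subgroup G} {q : ℕ}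
  (h : FrG S P K B ZJ L W Z C q)
include h

theorem nb (j : Fin k) : NB B (L j) (W j) (Z j) q := FourQ.nb h.bg j

theorem rt (j : Fin k) : AltQ.Rt B (W j) (Z j) := FourQ.rt h.bg j

omit h in
theorem cent_sup (W ZJ : Subgroup G) :
    centralizer ((W ⊔ ZJ : Subgroup G) : Set G) = centralizer (ZJ : Set G) ⊓ centralizer (W : Set G) := by
  apply le_antisymm
  · exact le_inf (centralizer_le (le_sup_right : ZJ ≤ W ⊔ ZJ)) (centralizer_le (le_sup_left : W ≤ W ⊔ ZJ))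
  · rintro x ⟨h1, h2⟩
    have h3 : W ⊔ ZJ ≤ centralizer ({x} : Set G) := sup_le
      (fun w hw => mem_centralizer_singleton_iff.2 (mem_centralizer_iff.1 h2 w hw))
      (fun w hw => mem_centralizer_singleton_iff.2 (mem_centralizer_iff.1 h1 w hw))
    exact mem_centralizer_iff.2 fun w hw => mem_centralizer_singleton_iff.1 (h3 hw)

/-- a block with module `W j` -/
theorem blk_idx {L' : Subgroup G} {j : Fin k} (hb : FBl B L' (W j)) : NB B L' (W j) (Z j) q := by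
  obtain ⟨⟨Z', q', hF⟩, -⟩ := hb
  have hZ' : Z' = Z j := by
    ext x
    rw [hF.toMd.mem_Z_iff, (h.bg.fr.blk j).toMd.mem_Z_iff]
  subst hZ'
  have hq' : q' = q := by
    have h3 := hF.card
    rw [(h.bg.fr.blk j).card, h.bg.fr.cardZ] at h3
    have h4 := h.four
    exact (Nat.eq_of_mul_eq_mul_left (by omega) h3).symm
  subst hq'
  exact ⟨hF, h.bg.fr.cardZ j⟩

/-- two blocks in `Y_j` -/
theorem blk_two {j : Fin k} {L₁ L₂ : Subgroup G} (h1 : L₁ ≤ YQ Z j) (h2 : L₂ ≤ YQ Z j)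
    (hN₁ : NB B L₁ (W j) (Z j) q) (hN₂ : NB B L₂ (W j) (Z j) q) :
    L₂ ≤ L₁ ⊔ (centralizer (ZJ : Set G) ⊓ centralizer (W j : Set G)) := by
  have hstar := UniPlus.star_main h.bg.wc h.bg.bau_two hN₁ hN₂ rfl rfl rfl (fun y hy => ?_)
  · have h3 := hstar.2.2
    rwa [h.bg.fr.zcB, cent_sup] at h3
  · obtain ⟨z, hz, hz1⟩ : ∃ z ∈ Z j, z ≠ 1 := by
      by_contra hcon
      push Not at hcon
      exact h.bg.Z_ne j ((eq_bot_iff_forall _).2 hcon)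
    have hv : y * z * y⁻¹ ∈ W j := hN₂.nV y hy z (hN₂.ZV hz)
    obtain ⟨l, hl, e⟩ := AltQ.trL hN₁ (h.rt j) hv (fun e => hz1 (conj_eq_one_iff.1 e)) hz hz1
    have h3 : l⁻¹ * y ∈ normalizer (Z j : Set G) := by
      refine h.cent_m hz hz1 (mem_inf.2 ⟨mul_mem (inv_mem (h1 hl)) (h2 hy), ?_⟩)
      rw [mem_centralizer_singleton_iff]
      have e2 : l⁻¹ * (y * z * y⁻¹) * l = z := by rw [← e]; group
      calc l⁻¹ * y * z = l⁻¹ * (y * z * y⁻¹) * l * (l⁻¹ * y) := by group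
        _ = z * (l⁻¹ * y) := by rw [e2]
    have h4 : cj y (Z j) = cj l (Z j) := by
      have e3 := mem_normalizer_iff_cj.1 h3
      conv_rhs => rw [← e3, cj_cj, mul_inv_cancel_left]
    refine ⟨l, hl, fun v hv => ⟨v, h4 ▸ hv, 1, fun l _ => by simp, by simp⟩⟩

/-- **(BLK)** -/
theorem blk_both {L' : Subgroup G} {j : Fin k} (hb : FBl B L' (W j)) (hL : L' ≤ YQ Z j) :
    L' ≤ L j ⊔ (centralizer (ZJ : Set G) ⊓ centralizer (W j : Set G)) ∧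
      L j ≤ L' ⊔ (centralizer (ZJ : Set G) ⊓ centralizer (W j : Set G)) :=
  ⟨h.blk_two (h.L_le j) hL (h.nb j) (h.blk_idx hb), h.blk_two hL (h.L_le j) (h.blk_idx hb) (h.nb j)⟩

/-- **The minimal parabolics over `T_j` in `Y_j`.** -/
theorem par' {j : Fin k} {R : Subgroup G} (hR : IsMinPar (TY S Z j) R) (hRY : R ≤ YQ Z j) :
    R ≤ normalizer (Z j : Set G) ∨ ∃ L' : Subgroup G, L' ≤ R ∧ FBl B L' (W j) ∧ NB B L' (W j) (Z j) q ∧
      R ≤ L' ⊔ TY S Z j := by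
  have hTR := h.syl_of hR.le hRY
  by_cases hK : K ≤ o2 R
  · left
    have h1 : R ≤ normalizer (ZJ : Set G) := (le_normalizer_o2 R).trans (h.lb.nrm _ (isPGroup_o2 R) hK)
    exact fun r hr => h.norm_ZJ (hRY hr) (h1 hr) j
  obtain ⟨m, hm, hm1, hmT⟩ := h.exists_m j
  by_cases hZ : R ≤ centralizer (zc (TY S Z j) : Set G)
  · left
    refine fun r hr => h.cent_m hm hm1 ⟨hRY hr, ?_⟩
    exact centralizer_le (Set.singleton_subset_iff.2 (h.m_zc hm hmT)) (hZ hr)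
  right
  have hc : R ⊓ centralizer (o2 R : Set G) ≤ o2 R :=
    MinSimple.Basic.char2_of_le (h.char2 j) ((o2_le_syl (h.syl j)).trans hR.le) hRY
  obtain ⟨L', hbl, h1, h2⟩ := h.blk j R hRY hR hTR hc hK hZ
  exact ⟨L', h1, hbl, h.blk_idx hbl, h2⟩

/-- **The minimal parabolics over `T_j` in `Y_j`.** -/
theorem par {j : Fin k} {R : Subgroup G} (hR : IsMinPar (TY S Z j) R) (hRY : R ≤ YQ Z j) :
    R ≤ normalizer (Z j : Set G) ∨ (R ≤ normalizer (W j : Set G) ∧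
      (∀ v ∈ W j, ∀ w ∈ W j, v ≠ 1 → w ≠ 1 → ∃ r ∈ R, r * v * r⁻¹ = w) ∧
      R ≤ L j ⊔ TY S Z j ⊔ (centralizer (ZJ : Set G) ⊓ centralizer (W j : Set G)) ∧
      L j ≤ R ⊔ (centralizer (ZJ : Set G) ⊓ centralizer (W j : Set G)) ∧
      ∃ L' ≤ R, FBl B L' (W j) ∧ R ≤ L' ⊔ TY S Z j) := by
  rcases h.par' hR hRY with h1 | ⟨L', h1, hbl, hN, h2⟩
  · exact Or.inl h1
  right
  have hb := h.blk_both hbl (h1.trans hRY)
  refine ⟨?_, ?_, ?_, ?_, L', h1, hbl, h2⟩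
  · refine h2.trans (sup_le (fun l hl => ?_) (h.T_norm_W j j))
    exact ML.MinFrame.le_normalizer_of (fun g hg x hx => hN.nV g hg x hx) hl
  · intro v hv w hw hv1 hw1
    obtain ⟨z, hz, hz1⟩ : ∃ z ∈ Z j, z ≠ 1 := by
      by_contra hcon
      push Not at hcon
      exact h.bg.Z_ne j ((eq_bot_iff_forall _).2 hcon)
    obtain ⟨a, ha, rfl⟩ := AltQ.trL hN (h.rt j) hv hv1 hz hz1
    obtain ⟨b, hb, rfl⟩ := AltQ.trL hN (h.rt j) hw hw1 hz hz1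
    exact ⟨b * a⁻¹, h1 (mul_mem hb (inv_mem ha)), by group⟩
  · exact h2.trans (sup_le (hb.1.trans (sup_le (le_sup_of_le_left le_sup_left) le_sup_right))
      (le_sup_of_le_left le_sup_right))
  · exact hb.2.trans (sup_le (h1.trans le_sup_left) le_sup_right)

/-- a minimal parabolic in `N(Z_j)` lies in `D N_{Y_j}(B)` -/
theorem le_gen_of_norm {j : Fin k} {R : Subgroup G} (hRY : R ≤ YQ Z j) (hR : R ≤ normalizer (Z j : Set G)) :
    R ≤ centralizer (ZJ : Set G) ⊔ (YQ Z j ⊓ normalizer (B : Set G)) := by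
  intro y hy
  obtain ⟨d, hd, n, hn, hnB, rfl⟩ := h.frat (hRY hy) (h.norm_ZJ' (hRY hy) (hR hy))
  exact mul_mem (mem_sup_left hd) (mem_sup_right (mem_inf.2 ⟨hn, hnB⟩))

/-- `N_{Y_j}(T_j) ≤ N(B)` -/
theorem norm_T_le (j : Fin k) : YQ Z j ⊓ normalizer (TY S Z j : Set G) ≤ normalizer (B : Set G) := by
  rintro n ⟨-, hnT⟩
  rw [mem_normalizer_iff_cj]
  refine h.bg.wc (TY S Z j) (h.T_two j) (h.B_le_T j) n ?_
  rw [← mem_normalizer_iff_cj.1 hnT]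
  exact cj_mono n (h.B_le_T j)

/-- **`Y_j = ⟨D, L_j, N_{Y_j}(B)⟩`** -/
theorem gen (j : Fin k) : YQ Z j ≤ centralizer (ZJ : Set G) ⊔ L j ⊔ (YQ Z j ⊓ normalizer (B : Set G)) := by
  refine MinSimple.MinParabolic.le_of_forall (h.syl j).1 ?_ fun R hR hRY => ?_
  · exact fun n hn => mem_sup_right (mem_inf.2 ⟨hn.1, h.norm_T_le j hn⟩)
  · rcases h.par hR hRY with h1 | ⟨-, -, h3, -⟩
    · exact (h.le_gen_of_norm hRY h1).trans (sup_le (le_sup_of_le_left le_sup_left) le_sup_right)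
    · refine h3.trans (sup_le (sup_le ?_ ?_) ?_)
      · exact le_sup_of_le_left le_sup_right
      · exact le_sup_of_le_right (le_inf (h.syl j).1 (h.T_norm_B j))
      · exact inf_le_left.trans (le_sup_of_le_left le_sup_left)

/-- **(E)**: no 2-group `≠ 1` is normalised by all `Y_l` -/
theorem nonloc (hE : NLoc (centralizer (ZJ : Set G) ⊔ ⨆ i, L i)) {U : Subgroup G} (hU : IsPGroup 2 U)
    (hY : ∀ l, YQ Z l ≤ normalizer (U : Set G)) : U = ⊥ := by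
  obtain ⟨i⟩ : Nonempty (Fin k) := ⟨⟨0, lt_of_lt_of_le (by norm_num) h.three⟩⟩
  exact hE U hU (sup_le ((h.D_le i).trans (hY i)) (iSup_le fun l => (h.L_le l).trans (hY l)))

end FrG

end Cfsg.Agent.Omega.EK3.QG

end
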