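import Cfsg.Agent.Mrg.Omega.EK3.QG.LocQ
import Cfsg.Agent.Mrg.Omega.KL.QF.KInX
import Cfsg.Agent.Mrg.Omega.Node.MulXTwo
import Cfsg.Agent.Mrg.Omega.EK3.FK.OfSplit
import Cfsg.Agent.Mrg.Omega.EK3.QG.End

section


/-!
# (E), `k ≥ 3`, `q ≥ 4`, over the case (L) of GammaFF: the frame `FrG` from `MulX.MulL`

* `uniW` : an FF-block over `B` with module in `V_P` has module `W i` and centralises `ZJ ⊓ C i` (`q > 2`);
* `blk_of` : the field `FrG.blk` from `NoW` (helper593 / `KInX.NoW`);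
* `frG_of` : `FrG` from `MulL`, the weak (TI) and `NoW`;
* `nloc` : `NLoc (KX ..) → NLoc (C(ZJ) ⊔ ⨆ L i)`;
* `TiWX K`, `NoWX K` : the sockets.
-/

set_option autoImplicit false
set_option linter.unusedSectionVars false

namespace Cfsg.Agent.Omega.EK3.QG

open Subgroup Cfsg Cfsg.Agent.ZN.ChoiceBase
open Cfsg.Agent.ZN (jj zj bau zc zl o2)
open Cfsg.Agent.ZN.ChoiceSit (Syl)
open Cfsg.Agent.Omega.OM
open Cfsg.Agent.Omega.Frame (Cls)
open Cfsg.Agent.Omega.NO3S.Level (nxt)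
open Cfsg.Agent.Omega.OM.UniPlus (NB)
open Cfsg.Agent.Omega.Node.MultiOf Cfsg.Agent.Omega.Node.MulG Cfsg.Agent.Omega.Node.MulX
open Cfsg.Agent.Omega.EK3.Q (YQ CQ NQ TY mem_YQ)
open Cfsg.Agent.MinSimple.MinParabolic (IsMinPar)
open Cfsg.Agent.Omega.KL.QF.KInX (NoW)

universe u

section

variable {G : Type u} [Group G] [Finite G] {S : Sylow 2 G} {P B ZJ : Subgroup G} {k : ℕ}
  {L W Z C A : Fin k → Subgroup G} {q : ℕ}

/-- **UNI+ over `MulL`**, `q > 2`: an FF-block over `B` with module in `V_P`. -/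
theorem uniW (h : MulL S P B ZJ L W Z C A q) (hq : 2 < q) {L' V' : Subgroup G}
    (hb : FBX B (zl (S : Subgroup G) P) L' V') :
    ∃ i, V' = W i ∧ NB B L' V' (Z i) q ∧ ∀ l, l ≠ i → L' ≤ centralizer (Z l : Set G) := by
  obtain ⟨Z', -, i, rfl, hN, hV, hc, -⟩ := h.uni hb
  refine ⟨i, NO3S.EMany.FourDQ.V_eq h.bg hq hN hV (fun z hz hzC => (hc z hz).1 hzC), hN, fun l hl x hx => ?_⟩
  refine mem_centralizer_iff.2 fun z hz => ?_
  exact ((hc z (h.bg.fr.Z_le l hz)).1 ((h.bg.fr.blk l).ZV.trans (h.bg.fr.WjC i l (Ne.symm hl)) hz) x hx).symm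

/-- a block over `B` with module in `V_P` which centralises all `Z l`, `l ≠ j`, has module `W j` -/
theorem uniW_eq (h : MulL S P B ZJ L W Z C A q) (hq : 2 < q) {L' V' : Subgroup G}
    (hb : FBX B (zl (S : Subgroup G) P) L' V') {j : Fin k} (hL : L' ≤ YQ Z j) : V' = W j := by
  obtain ⟨i, rfl, hN, -⟩ := uniW h hq hb
  by_contra hne
  have hij : i ≠ j := fun e => hne (by rw [e])
  obtain ⟨x, hx, hmv, -⟩ := hN.toFB.exists_mv
  apply hmv
  rw [← mem_normalizer_iff_cj]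
  refine centralizer_le_normalizer _ ?_
  exact mem_centralizer_iff.2 fun z hz => (mem_YQ.1 (hL hx) i hij z hz).symm

/-- **The field `FrG.blk`** from `NoW`. -/
theorem blk_of (h : MulL S P B ZJ L W Z C A q) (hq : 2 < q) (hw : ∀ j, NoW S P Z j) (j : Fin k) (R : Subgroup G)
    (hRY : R ≤ YQ Z j) (hR : IsMinPar (TY S Z j) R) (hT : Syl (TY S Z j) R)
    (hc : R ⊓ centralizer (o2 R : Set G) ≤ o2 R) (hK : ¬ nxt (S : Subgroup G) (o2 P) ≤ o2 R)
    (hZ : ¬ R ≤ centralizer (zc (TY S Z j) : Set G)) :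
    ∃ L' : Subgroup G, FBl B L' (W j) ∧ L' ≤ R ∧ R ≤ L' ⊔ TY S Z j := by
  have hB : B ≤ TY S Z j := by
    rw [h.eB]
    refine le_inf inf_le_left (le_iInf fun l => inf_le_right.trans (centralizer_le ?_))
    exact_mod_cast h.bg.fr.Z_le l
  obtain ⟨L', V', h1, h2, h3⟩ := Node.MulXTwo.exists_fbx h hT hB hR hc (hw j R hR hRY hc hZ) hK hZ
  obtain rfl := uniW_eq h hq h2 (h1.trans hRY)
  exact ⟨L', h2.1, h1, h3.trans (sup_comm _ _).le⟩

/-- **The frame `FrG`** from `MulL`, the weak (TI) and `NoW`. -/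
theorem frG_of (h : MulL S P B ZJ L W Z C A q) (hk : 3 ≤ k) (hq : 4 ≤ q)
    (hti : ∀ j, ∀ m ∈ Z j, m ≠ 1 → YQ Z j ⊓ centralizer ({m} : Set G) ≤ normalizer (Z j : Set G))
    (hw : ∀ j, NoW S P Z j) : FrG S P (nxt (S : Subgroup G) (o2 P)) B ZJ L W Z C q where
  mul := h.toG
  three := hk
  four := hq
  ti := hti
  blk := blk_of h (by omega) hw

/-- **`KX ≤ ⟨C_G(Z_J), L_i⟩`** over `FrG`, `MulL`. -/
theorem KX_le (h : MulL S P B ZJ L W Z C A q) {K : Subgroup G} (hF : FrG S P K B ZJ L W Z C q) :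
    KX B ZJ (zl (S : Subgroup G) P) ≤ centralizer (ZJ : Set G) ⊔ ⨆ i, L i := by
  have hq : 2 < q := by have := hF.four; omega
  refine sup_le le_sup_left (iSup_le ?_)
  rintro ⟨⟨L', V'⟩, hb⟩
  obtain ⟨i, rfl, -, hc⟩ := uniW h hq hb
  have hY : L' ≤ YQ Z i := le_iInf fun l => hc l l.2
  refine (hF.blk_both hb.1 hY).1.trans (sup_le (le_sup_of_le_right (le_iSup L i)) ?_)
  exact le_sup_of_le_left inf_le_left

/-- **the nonlocality** -/
theorem nloc (h : MulL S P B ZJ L W Z C A q) {K : Subgroup G} (hF : FrG S P K B ZJ L W Z C q)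
    (hN : NLoc (KX B ZJ (zl (S : Subgroup G) P))) : NLoc (centralizer (ZJ : Set G) ⊔ ⨆ i, L i) :=
  fun U hU hn => hN U hU ((KX_le h hF).trans hn)

end

section sockets

variable (K : Cls.{u})

/-- **socket (weak TI)**, `k ≥ 3`, `q ≥ 4`, over `MulL`: `C_G(⟨m⟩ × Λ_j) ≤ N_G(Z_j)`. -/
def TiWX : Prop :=
  ∀ (G : Type u) [Group G] [Finite G], K G → ∀ (S : Sylow 2 G) (P B ZJ : Subgroup G) (k : ℕ)
    (L W Z C A : Fin k → Subgroup G) (q : ℕ), 3 ≤ k → 4 ≤ q → MulL S P B ZJ L W Z C A q →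
      NLoc (KX B ZJ (zl (S : Subgroup G) P)) →
        ∀ j, ∀ m ∈ Z j, m ≠ 1 → YQ Z j ⊓ centralizer ({m} : Set G) ≤ normalizer (Z j : Set G)

/-- **socket (NoW)**, `k ≥ 3`, `q ≥ 4`, over `MulL`: no weird `Y ≤ C_G(Z_l : l ≠ j)` over `C_S(Z_l : l ≠ j)`. -/
def NoWX : Prop :=
  ∀ (G : Type u) [Group G] [Finite G], K G → ∀ (S : Sylow 2 G) (P B ZJ : Subgroup G) (k : ℕ)
    (L W Z C A : Fin k → Subgroup G) (q : ℕ), 3 ≤ k → 4 ≤ q → MulL S P B ZJ L W Z C A q →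
      NLoc (KX B ZJ (zl (S : Subgroup G) P)) → ∀ j, NoW S P Z j

end sockets

end Cfsg.Agent.Omega.EK3.QG

end

section


/-!
# Row (8) over the case (L) of GammaFF: `EX K (3 ≤ k ∧ 4 ≤ q)` over `MulL`

* `false_mulX` : (E), `k ≥ 3`, `q ≥ 4`, over `MulL`, from the weak (TI) and `NoW`;
* **`eX_of : MLK → Ext → TiWX K → NoWX K → EX K (3 ≤ k ∧ 4 ≤ q)`**.
-/

set_option autoImplicit false
set_option linter.unusedSectionVars false

namespace Cfsg.Agent.Omega.EK3.QG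

open Subgroup Cfsg Cfsg.Agent.ZN.ChoiceBase
open Cfsg.Agent.ZN (jj zj bau zc zl o2)
open Cfsg.Agent.Omega.Frame (Cls)
open Cfsg.Agent.Omega.Node.MultiOf Cfsg.Agent.Omega.Node.MulX
open Cfsg.Agent.Omega.EK3.Q (YQ)
open Cfsg.Agent.Omega.KL.QF.KInX (NoW)

universe u

/-- **(E), `k ≥ 3`, `q ≥ 4`, over `MulL`**, from the weak (TI) and `NoW`. -/
theorem false_mulX (hML : ML.Final.MLK.{u, u}) (hE : ML.Ex.Two.Ext.{u, u}) {G : Type u} [Group G] [Finite G]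
    {S : Sylow 2 G} {P B ZJ : Subgroup G} {k : ℕ} {L W Z C A : Fin k → Subgroup G} {q : ℕ}
    (h : MulL S P B ZJ L W Z C A q) (hk : 3 ≤ k) (hq : 4 ≤ q)
    (hN : NLoc (KX B ZJ (zl (S : Subgroup G) P)))
    (hti : ∀ j, ∀ m ∈ Z j, m ≠ 1 → YQ Z j ⊓ centralizer ({m} : Set G) ≤ normalizer (Z j : Set G))
    (hw : ∀ j, NoW S P Z j) : False := by
  have hF := frG_of h hk hq hti hw
  exact hF.false hML hE (Q.Tree.kgroup_YQ h.bg) (nloc h hF hN)

/-- **Row (8) over `MulL`, from the sockets.** -/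
theorem eX_of {K : Cls.{u}} (hML : ML.Final.MLK.{u, u}) (hE : ML.Ex.Two.Ext.{u, u}) (hT : TiWX K) (hW : NoWX K) :
    EX K fun k q => 3 ≤ k ∧ 4 ≤ q := by
  rintro G _ _ hG S P B ZJ k L W Z C A q - ⟨hk, hq⟩ hM hN
  exact (false_mulX hML hE hM hk hq hN (hT G hG S P B ZJ k L W Z C A q hk hq hM hN)
    (hW G hG S P B ZJ k L W Z C A q hk hq hM hN)).elim

end Cfsg.Agent.Omega.EK3.QG

end
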