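import Cfsg.Agent.Mrg.Omega.EK3.Q.Def
import Cfsg.Agent.Mrg.Omega.Node.MulG


/-!
# (E), `k ≥ 3`, `q ≥ 4`, over the general frame `MulG` (`HypL` and the case (L) of GammaFF): the frame `FrG`

`YQ`, `CQ`, `NQ`, `TY` as in `EK3/Q/Def.lean`. `blk` only for `R ≤ Y_j`, with UNI+ in it (no other block occurs); the nonlocality is
that of `⟨C_G(Z_J), L_1, .., L_k⟩`.
-/

set_option autoImplicit false
set_option linter.unusedSectionVars false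

namespace Cfsg.Agent.Omega.EK3.QG

open Subgroup Cfsg Cfsg.Agent.ZN.ChoiceBase
open Cfsg.Agent.ZN (jj zj bau zc zl o2)
open Cfsg.Agent.ZN.ChoiceSit (Syl)
open Cfsg.Agent.Omega.Node.MultiOf Cfsg.Agent.Omega.Node.MulG
open Cfsg.Agent.MinSimple.MinParabolic (IsMinPar)
open Cfsg.Agent.Omega.EK3.Q (YQ CQ NQ TY)

universe u

variable {G : Type u} [Group G] {k : ℕ}

/-- **The frame of (E), `k ≥ 3`, `q ≥ 4`, over `MulG`.** -/
structure FrG [Finite G] (S : Sylow 2 G) (P K B ZJ : Subgroup G) (L W Z C : Fin k → Subgroup G) (q : ℕ) : Prop where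
  mul : MulG S P K B ZJ L W Z C q
  three : 3 ≤ k
  four : 4 ≤ q
  /-- the only form of (TI) used: `C_G(⟨m⟩ × Λ_j) ≤ N_G(Z_j)` -/
  ti : ∀ j, ∀ m ∈ Z j, m ≠ 1 → YQ Z j ⊓ centralizer ({m} : Set G) ≤ normalizer (Z j : Set G)
  /-- minimal parabolics over `T_j` in `Y_j` which move `Ω₁(Z(T_j))`, `K ≰ O₂(R)`, contain a block with module `W j` -/
  blk : ∀ j, ∀ R : Subgroup G, R ≤ YQ Z j → IsMinPar (TY S Z j) R → Syl (TY S Z j) R →
    R ⊓ centralizer (o2 R : Set G) ≤ o2 R → ¬ K ≤ o2 R → ¬ R ≤ centralizer (zc (TY S Z j) : Set G) →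
      ∃ L' : Subgroup G, FBl B L' (W j) ∧ L' ≤ R ∧ R ≤ L' ⊔ TY S Z j

/-- from the weak (TI), UNI+ and block generation in `Y_j` -/
theorem FrG.of_uniW [Finite G] {S : Sylow 2 G} {P K B ZJ : Subgroup G} {L W Z C : Fin k → Subgroup G} {q : ℕ}
    (mul : MulG S P K B ZJ L W Z C q) (three : 3 ≤ k) (four : 4 ≤ q)
    (ti : ∀ j, ∀ m ∈ Z j, m ≠ 1 → YQ Z j ⊓ centralizer ({m} : Set G) ≤ normalizer (Z j : Set G))
    (uni : ∀ j, ∀ L' V' : Subgroup G, FBl B L' V' → L' ≤ YQ Z j → V' = W j)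
    (blk : ∀ j, ∀ R : Subgroup G, R ≤ YQ Z j → IsMinPar (TY S Z j) R → Syl (TY S Z j) R →
      R ⊓ centralizer (o2 R : Set G) ≤ o2 R → ¬ K ≤ o2 R → ¬ R ≤ centralizer (zc (TY S Z j) : Set G) →
        ∃ L' V' : Subgroup G, FBl B L' V' ∧ L' ≤ R ∧ R ≤ L' ⊔ TY S Z j) : FrG S P K B ZJ L W Z C q where
  mul := mul
  three := three
  four := four
  ti := ti
  blk := by
    intro j R hRY hR hT hc hK hZ
    obtain ⟨L', V', h1, h2, h3⟩ := blk j R hRY hR hT hc hK hZ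
    obtain rfl := uni j L' V' h1 (h2.trans hRY)
    exact ⟨L', h1, h2, h3⟩

/-- (TI) for pairs gives the weak (TI) -/
theorem tiW_of_ti {Z : Fin k → Subgroup G} (hk : 2 ≤ k)
    (ti : ∀ i j, i ≠ j → ∀ z ∈ Z i, z ≠ 1 → centralizer ({z} : Set G) ⊓ CQ Z i j ≤ normalizer (Z i : Set G)) :
    ∀ j, ∀ m ∈ Z j, m ≠ 1 → YQ Z j ⊓ centralizer ({m} : Set G) ≤ normalizer (Z j : Set G) := by
  intro j m hm hm1
  have : Nontrivial (Fin k) := Fin.nontrivial_iff_two_le.2 hk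
  obtain ⟨i, hi⟩ := exists_ne j
  rintro x ⟨hx, hc⟩
  exact ti j i hi.symm m hm hm1 ⟨hc, Q.YQ_le_left Z j i hx⟩

/-- from UNI+ and block generation in `Y_j` -/
theorem FrG.of_uni [Finite G] {S : Sylow 2 G} {P K B ZJ : Subgroup G} {L W Z C : Fin k → Subgroup G} {q : ℕ}
    (mul : MulG S P K B ZJ L W Z C q) (three : 3 ≤ k) (four : 4 ≤ q)
    (ti : ∀ i j, i ≠ j → ∀ z ∈ Z i, z ≠ 1 → centralizer ({z} : Set G) ⊓ CQ Z i j ≤ normalizer (Z i : Set G))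
    (uni : ∀ j, ∀ L' V' : Subgroup G, FBl B L' V' → L' ≤ YQ Z j → V' = W j)
    (blk : ∀ j, ∀ R : Subgroup G, R ≤ YQ Z j → IsMinPar (TY S Z j) R → Syl (TY S Z j) R →
      R ⊓ centralizer (o2 R : Set G) ≤ o2 R → ¬ K ≤ o2 R → ¬ R ≤ centralizer (zc (TY S Z j) : Set G) →
        ∃ L' V' : Subgroup G, FBl B L' V' ∧ L' ≤ R ∧ R ≤ L' ⊔ TY S Z j) : FrG S P K B ZJ L W Z C q :=
  FrG.of_uniW mul three four (tiW_of_ti (by omega) ti) uni blk

end Cfsg.Agent.Omega.EK3.QG
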